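import Groth.Agent.GrpSchLib.FieldComp
import Groth.Agent.GrpSchLib.AffineHopf
import Groth.Agent.SchTop.ZeroDim
import Mathlib.AlgebraicGeometry.Limits
import Mathlib.Topology.JacobsonSpace
import Mathlib.FieldTheory.IsAlgClosed.Basic

/-!
A morphism from an ind-(finite split) spectrum to a group scheme has image in an affine open.
-/

universe u

open CategoryTheory AlgebraicGeometry MonoidalCategory CartesianMonoidalCategory MonObj GrpObj
open TopologicalSpace
open scoped TensorProduct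

namespace Groth.Agent.ProEtPts

/-- `A` is a filtered union of subalgebras isomorphic to finite powers of `k`. -/
def IndSplit (k A : Type u) [CommRing k] [CommRing A] [Algebra k A] : Prop :=
  ∀ s : Finset A, ∃ (B : Subalgebra k A) (n : ℕ), (↑s : Set A) ⊆ (B : Set A) ∧
    Nonempty (B ≃ₐ[k] (Fin n → k))

variable {k : Type u} [Field k] {A : Type u} [CommRing A] [Algebra k A]

theorem exists_values (hA : IndSplit k A) (a : A) :
    ∃ S : Finset k, ∀ χ : A →ₐ[k] k, χ a ∈ S := by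
  classical
  obtain ⟨B, n, hB, ⟨e⟩⟩ := hA {a}
  let b : B := ⟨a, hB (by simp)⟩
  refine ⟨Finset.univ.image (e b), fun χ => ?_⟩
  let ψ : (Fin n → k) →ₐ[k] k := (χ.comp B.val).comp e.symm.toAlgHom
  obtain ⟨j, hj⟩ : ∃ j, ψ (Pi.single j 1) ≠ 0 := by
    by_contra h
    push Not at h
    have h1 : ψ (∑ j, Pi.single j 1) = 0 := by
      rw [map_sum]
      exact Finset.sum_eq_zero fun j _ => h j
    rw [Finset.univ_sum_single (fun _ : Fin n => (1 : k))] at h1
    exact one_ne_zero ((map_one ψ).symm.trans h1)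
  refine Finset.mem_image.2 ⟨j, Finset.mem_univ j, ?_⟩
  have h2 : e b * Pi.single j 1 = e b j • (Pi.single j 1 : Fin n → k) := by
    funext i
    rcases eq_or_ne i j with rfl | hi <;> simp [*]
  have h3 := congrArg ψ h2
  rw [map_mul, map_smul, smul_eq_mul] at h3
  have h4 := mul_right_cancel₀ hj h3
  rw [← h4]
  simp [ψ, b]

theorem isIntegral_of_indSplit (hA : IndSplit k A) : Algebra.IsIntegral k A := by
  refine ⟨fun a => ?_⟩
  obtain ⟨B, n, hB, ⟨e⟩⟩ := hA {a}
  have : Module.Finite k B := Module.Finite.equiv e.symm.toLinearEquiv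
  have h := Algebra.IsIntegral.isIntegral (R := k) (⟨a, hB (by simp)⟩ : B)
  exact h.map B.val

theorem exists_residue [IsAlgClosed k] (hA : IndSplit k A) (p : PrimeSpectrum A) :
    ∃ χ : A →ₐ[k] k, RingHom.ker χ = p.asIdeal := by
  have := isIntegral_of_indSplit hA
  have : Algebra.IsIntegral k (A ⧸ p.asIdeal) :=
    Algebra.IsIntegral.of_surjective (Ideal.Quotient.mkₐ k p.asIdeal) (Ideal.Quotient.mkₐ_surjective k _)
  let e := AlgEquiv.ofBijective (Algebra.ofId k (A ⧸ p.asIdeal))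
    IsAlgClosed.algebraMap_bijective_of_isIntegral
  refine ⟨e.symm.toAlgHom.comp (Ideal.Quotient.mkₐ k p.asIdeal), ?_⟩
  ext x
  rw [RingHom.mem_ker, AlgHom.comp_apply]
  exact (map_eq_zero_iff _ e.symm.injective).trans Ideal.Quotient.eq_zero_iff_mem

theorem isOpen_setOf_residue (hA : IndSplit k A) (χ₀ : PrimeSpectrum A → (A →ₐ[k] k))
    (hχ₀ : ∀ p, RingHom.ker (χ₀ p) = p.asIdeal) (a : A) (c : k) :
    IsOpen {p : PrimeSpectrum A | χ₀ p a = c} := by
  classical
  obtain ⟨S, hS⟩ := exists_values hA a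
  have h : {p : PrimeSpectrum A | χ₀ p a = c}ᶜ =
      ⋃ d ∈ S.erase c, PrimeSpectrum.zeroLocus {a - algebraMap k A d} := by
    have hmem : ∀ (p : PrimeSpectrum A) (d : k), a - algebraMap k A d ∈ p.asIdeal ↔ χ₀ p a = d := by
      intro p d
      rw [← hχ₀, RingHom.mem_ker, map_sub, AlgHom.commutes, sub_eq_zero]
      rfl
    ext p
    simp only [Set.mem_compl_iff, Set.mem_setOf_eq, Set.mem_iUnion, PrimeSpectrum.mem_zeroLocus,
      Set.singleton_subset_iff, SetLike.mem_coe, hmem, Finset.mem_erase, exists_prop]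
    exact ⟨fun hne => ⟨χ₀ p a, ⟨hne, hS _⟩, rfl⟩, fun ⟨d, ⟨hd, _⟩, he⟩ => he ▸ hd⟩
  rw [← isClosed_compl_iff, h]
  exact isClosed_biUnion_finset fun d _ => PrimeSpectrum.isClosed_zeroLocus _

variable {G : Over (Spec (CommRingCat.of k))} [GrpObj G]

theorem eq_closedPoint (t : Spec (CommRingCat.of k)) : t = IsLocalRing.closedPoint k :=
  @Subsingleton.elim (Spec (CommRingCat.of k)) inferInstance _ _

/-- Near a point of the spectrum, the translates of the image lie in a fixed open. -/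
theorem exists_nhds (hA : IndSplit k A) (fT : GrpSchLib.AffineHopf.sp k A ⟶ G)
    (χ₀ : PrimeSpectrum A → (A →ₐ[k] k)) (hχ₀ : ∀ p, RingHom.ker (χ₀ p) = p.asIdeal)
    (U : G.left.Opens) (hU : η[G].left (IsLocalRing.closedPoint k) ∈ U)
    (x₀ : 𝟙_ _ ⟶ G) (s : PrimeSpectrum A)
    (hx₀ : x₀.left (IsLocalRing.closedPoint k) = fT.left s) :
    ∃ (V : Set (PrimeSpectrum A)) (O : Set G.left), IsOpen V ∧ s ∈ V ∧ IsOpen O ∧ fT.left s ∈ O ∧
      ∀ p ∈ V, ∀ γ : 𝟙_ _ ⟶ G, γ.left (IsLocalRing.closedPoint k) ∈ O →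
        (GrpSchLib.divIso γ).hom.left (fT.left p) ∈ U := by
  classical
  obtain ⟨U', hU', hsU', -⟩ :=
    exists_isAffineOpen_mem_and_subset (show fT.left s ∈ (⊤ : G.left.Opens) from trivial)
  obtain ⟨φ, hφ⟩ := Spec.map_surjective (hU'.fromSpec ≫ G.hom)
  letI : Algebra k Γ(G.left, U') := φ.hom.toAlgebra
  let R : Type u := Γ(G.left, U')
  let j : GrpSchLib.AffineHopf.sp k R ⟶ G := Over.homMk hU'.fromSpec hφ.symm
  let p1 := GrpSchLib.AffineHopf.spMap (R := k) (Algebra.TensorProduct.includeLeft : A →ₐ[k] A ⊗[k] R)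
  let p2 := GrpSchLib.AffineHopf.spMap (R := k) (Algebra.TensorProduct.includeRight : R →ₐ[k] A ⊗[k] R)
  let m : GrpSchLib.AffineHopf.sp k (A ⊗[k] R) ⟶ G := (p2 ≫ j) * (p1 ≫ fT)⁻¹
  let pt : ∀ {B : Type u} [CommRing B] [Algebra k B], (B →ₐ[k] k) →
      (GrpSchLib.AffineHopf.sp k k ⟶ GrpSchLib.AffineHopf.sp k B) :=
    fun χ => GrpSchLib.AffineHopf.spMap χ
  let uk : (𝟙_ (Over (Spec (CommRingCat.of k)))) ⟶ GrpSchLib.AffineHopf.sp k k :=
    Over.homMk (𝟙 _) (by
      show 𝟙 _ ≫ Spec.map (CommRingCat.ofHom (RingHom.id k)) = 𝟙 _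
      simp)
  have huk : ∀ t, uk.left t = t := fun t => rfl
  have key : ∀ (p : PrimeSpectrum A) (γ : 𝟙_ _ ⟶ G) (g : R →ₐ[k] k),
      γ = uk ≫ pt g ≫ j →
      (GrpSchLib.divIso γ).hom.left (fT.left p) =
        m.left ((pt (Algebra.TensorProduct.lift (χ₀ p) g fun _ _ => .all ..)).left
          (IsLocalRing.closedPoint k)) := by
    intro p γ g hγ
    let L := Algebra.TensorProduct.lift (χ₀ p) g fun _ _ => .all ..
    have h1 : pt L ≫ p1 = pt (χ₀ p) := by
      simp only [pt, p1, GrpSchLib.AffineHopf.spMap_comp, L, Algebra.TensorProduct.lift_comp_includeLeft]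
    have h2 : pt L ≫ p2 = pt g := by
      refine (GrpSchLib.AffineHopf.spMap_comp _ _).trans (congrArg GrpSchLib.AffineHopf.spMap ?_)
      exact AlgHom.ext fun x => by simp [L]
    have h3 : uk ≫ pt (χ₀ p) ≫ fT ≫ (GrpSchLib.divIso γ).hom = uk ≫ pt L ≫ m := by
      simp only [m, GrpSchLib.divIso, MonObj.comp_mul, GrpObj.comp_inv]
      rw [← Category.assoc (pt L) p1 fT, h1, ← Category.assoc (pt L) p2 j, h2]
      congr 1
      · rw [← Category.assoc fT, ← Category.assoc (pt (χ₀ p)), ← Category.assoc uk,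
          toUnit_unique (uk ≫ pt (χ₀ p) ≫ fT ≫ toUnit G) (𝟙 _), Category.id_comp]
        exact hγ
    have h4 := congrArg (fun q : 𝟙_ _ ⟶ G => q.left (IsLocalRing.closedPoint k)) h3
    simp only [GrpSchLib.left_comp_apply] at h4
    rw [huk] at h4
    rw [← h4]
    congr 2
    apply PrimeSpectrum.ext
    show p.asIdeal = (IsLocalRing.maximalIdeal k).comap (χ₀ p : A →ₐ[k] k).toRingHom
    rw [IsLocalRing.maximalIdeal_eq_bot, ← RingHom.ker_eq_comap_bot]
    exact (hχ₀ p).symm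
  have hfac : ∀ γ : 𝟙_ _ ⟶ G, γ.left (IsLocalRing.closedPoint k) ∈ U' →
      ∃ g : R →ₐ[k] k, γ = uk ≫ pt g ≫ j := by
    intro γ hγ
    have hr : Set.range γ.left ⊆ Set.range hU'.fromSpec := by
      rintro _ ⟨t, rfl⟩
      rw [hU'.range_fromSpec, eq_closedPoint t]
      exact hγ
    obtain ⟨ψ, hψ⟩ := Spec.map_surjective (IsOpenImmersion.lift hU'.fromSpec γ.left hr)
    have h1 : Spec.map ψ ≫ hU'.fromSpec = γ.left := by rw [hψ, IsOpenImmersion.lift_fac]
    have h2 : φ ≫ ψ = 𝟙 _ := by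
      apply Spec.map_injective
      rw [Spec.map_comp, hφ, ← Category.assoc, h1, Over.w γ, Spec.map_id]
      rfl
    refine ⟨{ ψ.hom with commutes' := fun c => congrArg (fun F : CommRingCat.of k ⟶ CommRingCat.of k => F.hom c) h2 }, ?_⟩
    refine Over.OverMorphism.ext ?_
    rw [← h1]
    show Spec.map ψ ≫ _ = 𝟙 _ ≫ Spec.map _ ≫ _
    simp
    rfl
  obtain ⟨g₀, hg₀⟩ := hfac x₀ (hx₀ ▸ hsU')
  let q₀ : A ⊗[k] R →ₐ[k] k := Algebra.TensorProduct.lift (χ₀ s) g₀ fun _ _ => .all ..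
  have hq₀ : m.left ((pt q₀).left (IsLocalRing.closedPoint k)) ∈ U := by
    rw [← key s x₀ g₀ hg₀, ← hx₀, GrpSchLib.divIso_hom_apply_self]
    exact hU
  obtain ⟨_, ⟨h, rfl⟩, hq, hsub⟩ := PrimeSpectrum.isTopologicalBasis_basic_opens.exists_subset_of_mem_open
    (show (pt q₀).left (IsLocalRing.closedPoint k) ∈ m.left ⁻¹' (U : Set G.left) from hq₀)
    (U.2.preimage m.left.continuous)
  have hq' : q₀ h ≠ 0 := fun h0 => hq (by
    show q₀ h ∈ IsLocalRing.maximalIdeal k
    rw [h0]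
    exact zero_mem _)
  obtain ⟨S, hS⟩ := TensorProduct.exists_finset h
  let r : R := ∑ i ∈ S, χ₀ s i.1 • i.2
  have hgr : ∀ (p : PrimeSpectrum A) (g : R →ₐ[k] k), (∀ i ∈ S, χ₀ p i.1 = χ₀ s i.1) →
      Algebra.TensorProduct.lift (χ₀ p) g (fun _ _ => .all ..) h = g r := by
    intro p g hp
    rw [hS, map_sum, map_sum]
    refine Finset.sum_congr rfl fun i hi => ?_
    rw [Algebra.TensorProduct.lift_tmul, hp i hi, map_smul, smul_eq_mul]
  refine ⟨⋂ i ∈ S, {p | χ₀ p i.1 = χ₀ s i.1}, hU'.fromSpec '' (PrimeSpectrum.basicOpen r : Set (PrimeSpectrum R)),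
    isOpen_biInter_finset fun i _ => isOpen_setOf_residue hA χ₀ hχ₀ _ _, ?_,
    hU'.fromSpec.isOpenEmbedding.isOpenMap _ (PrimeSpectrum.isOpen_basicOpen), ?_, ?_⟩
  · simp
  · refine ⟨(pt g₀).left (IsLocalRing.closedPoint k), ?_, ?_⟩
    · show ¬ g₀ r ∈ IsLocalRing.maximalIdeal k
      intro hm
      apply hq'
      show q₀ h = 0
      rw [hgr s g₀ fun _ _ => rfl]
      simpa using hm
    · rw [← hx₀, hg₀]
      rfl
  · rintro p hp γ ⟨y, hy, hyγ⟩
    obtain ⟨g, hg⟩ := hfac γ (by rw [← hyγ]; exact hU'.range_fromSpec.subset ⟨y, rfl⟩)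
    rw [key p γ g hg]
    apply hsub
    have hy' : (pt g).left (IsLocalRing.closedPoint k) = y :=
      hU'.fromSpec.isOpenEmbedding.injective (by rw [hyγ, hg]; rfl)
    show ¬ _ ∈ IsLocalRing.maximalIdeal k
    intro hm
    apply hy
    rw [← hy']
    show g r ∈ IsLocalRing.maximalIdeal k
    rw [← hgr p g fun i hi => Set.mem_iInter₂.1 hp i hi]
    exact hm

theorem exists_affine_cover [IsAlgClosed k] [JacobsonSpace G.left]
    (hrat : ∀ g : G.left, IsClosed ({g} : Set G.left) → ∃ x : 𝟙_ _ ⟶ G, x.left (IsLocalRing.closedPoint k) = g)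
    (hA : IndSplit k A) (fT : GrpSchLib.AffineHopf.sp k A ⟶ G) :
    ∃ U : G.left.Opens, IsAffineOpen U ∧ Set.range fT.left ⊆ (U : Set G.left) := by
  classical
  choose χ₀ hχ₀ using exists_residue (k := k) hA
  let xp : PrimeSpectrum A → (𝟙_ _ ⟶ G) := fun p =>
    (Over.homMk (Spec.map (CommRingCat.ofHom (χ₀ p).toRingHom)) (by
        show Spec.map _ ≫ Spec.map _ = 𝟙 _
        rw [← Spec.map_comp, ← CommRingCat.ofHom_comp,
          show (χ₀ p).toRingHom.comp (algebraMap k A) = RingHom.id k from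
            RingHom.ext fun c => (χ₀ p).commutes c, CommRingCat.ofHom_id, Spec.map_id]) :
      𝟙_ _ ⟶ GrpSchLib.AffineHopf.sp k A) ≫ fT
  have hxp : ∀ p, (xp p).left (IsLocalRing.closedPoint k) = fT.left p := by
    intro p
    show fT.left (PrimeSpectrum.comap (χ₀ p).toRingHom (IsLocalRing.closedPoint k)) = fT.left p
    congr 1
    apply PrimeSpectrum.ext
    show (IsLocalRing.maximalIdeal k).comap (χ₀ p).toRingHom = p.asIdeal
    rw [IsLocalRing.maximalIdeal_eq_bot, ← RingHom.ker_eq_comap_bot]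
    exact hχ₀ p
  obtain ⟨U, hUa, heU, -⟩ := exists_isAffineOpen_mem_and_subset
    (show η[G].left (IsLocalRing.closedPoint k) ∈ (⊤ : G.left.Opens) from trivial)
  let X := PrimeSpectrum A
  have hfc : Continuous (fun p : X => fT.left p) := fT.left.continuous
  choose V O hV hsV hO hsO hVO using
    fun s : X => exists_nhds hA fT χ₀ hχ₀ U heU (xp s) s (hxp s)
  -- around each component
  have hlocal : ∀ s₀ : X, ∃ (H : Set G.left) (W : G.left.Opens), IsClopen H ∧ IsAffineOpen W ∧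
      fT.left s₀ ∈ H ∧ ∀ s : X, fT.left s ∈ H → fT.left s ∈ W := by
    intro s₀
    obtain ⟨c, hc, hcs⟩ := GrpSchLib.exists_isMaxPt (fT.left s₀)
    let SC : Set X := {s | c ⤳ fT.left s}
    have hSC : IsCompact SC := by
      have : SC = (fun p : X => fT.left p) ⁻¹' closure {c} := by
        ext s
        exact specializes_iff_mem_closure
      rw [this]
      exact (isClosed_closure.preimage hfc).isCompact
    obtain ⟨T, hT, hTfin, hcov⟩ := hSC.elim_finite_subcover_image (b := SC) (c := V)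
      (fun s _ => hV s) fun s hs => Set.mem_biUnion hs (hsV s)
    have hne : (⋂ s ∈ T, O s).Nonempty :=
      ⟨c, Set.mem_iInter₂.2 fun s hs => (hT hs : c ⤳ fT.left s).mem_open (hO s) (hsO s)⟩
    obtain ⟨g, hg, hgc⟩ := nonempty_inter_closedPoints hne
      (hTfin.isOpen_biInter fun s _ => hO s).isLocallyClosed
    obtain ⟨γ, hγ⟩ := hrat g hgc
    let W : G.left.Opens := (GrpSchLib.divIso γ).hom.left ⁻¹ᵁ U
    have hSW : ∀ s ∈ SC, fT.left s ∈ W := by
      intro s hs
      obtain ⟨t, ht, hst⟩ := Set.mem_iUnion₂.1 (hcov hs)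
      exact hVO t s hst γ (hγ ▸ Set.mem_iInter₂.1 hg t ht)
    let K : Set X := ((fun p : X => fT.left p) ⁻¹' (W : Set G.left))ᶜ
    have hK : IsCompact K := (W.2.preimage hfc).isClosed_compl.isCompact
    have hsep : ∀ s ∈ K, ∃ H : Set G.left, IsClopen H ∧ c ∈ H ∧ fT.left s ∉ H := by
      intro s hs
      obtain ⟨d, hd, hds⟩ := GrpSchLib.exists_isMaxPt (fT.left s)
      have hcd : c ∉ closure ({d} : Set G.left) := fun h => by
        have hdc : d = c := hc _ (specializes_iff_mem_closure.2 h)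
        exact hs (hSW s (show c ⤳ fT.left s from by rw [← hdc]; exact hds))
      obtain ⟨V', hV', hcV', hV's⟩ := exists_isAffineOpen_mem_and_subset
        (U := (⟨(closure {d})ᶜ, isClosed_closure.isOpen_compl⟩ : G.left.Opens)) hcd
      refine ⟨GrpSchLib.hull (V' : Set G.left),
        ⟨GrpSchLib.isClosed_hull V'.2 hV'.isCompact, GrpSchLib.isOpen_hull V'.2⟩,
        ⟨c, hcV', specializes_rfl⟩, ?_⟩
      rintro ⟨v, hvV, hv⟩
      exact hV's hvV (hd.specializes GrpSchLib.uniComp hds hv).mem_closure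
    choose! H hH hcH hsH using hsep
    obtain ⟨T', hT', hT'fin, hcov'⟩ := hK.elim_finite_subcover_image (b := K)
      (c := fun s => (fun p : X => fT.left p) ⁻¹' (H s)ᶜ)
      (fun s hs => (hH s hs).1.isOpen_compl.preimage hfc)
      fun s hs => Set.mem_biUnion hs (hsH s hs)
    refine ⟨⋂ s ∈ T', H s, W, hT'fin.isClopen_biInter fun s hs => hH s (hT' hs),
      hUa.preimage_of_isIso _, ?_, fun s hs => ?_⟩
    · exact Set.mem_iInter₂.2 fun s hs => hcs.mem_closed (hH s (hT' hs)).1 (hcH s (hT' hs))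
    · by_contra hsW
      obtain ⟨t, ht, hst⟩ := Set.mem_iUnion₂.1 (hcov' (show s ∈ K from hsW))
      exact hst (Set.mem_iInter₂.1 hs t ht)
  choose H W hH hW hsH hHW using hlocal
  obtain ⟨T, hT⟩ := isCompact_univ.elim_finite_subcover
    (fun s₀ : X => (fun p : X => fT.left p) ⁻¹' H s₀) (fun s => (hH s).2.preimage hfc)
    fun s _ => Set.mem_iUnion.2 ⟨s, hsH s⟩
  let e := T.equivFin.symm
  let D : Fin T.card → G.left.Opens := fun j =>
    ⟨H (e j).1 \ ⋃ i < j, H (e i).1,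
      ((hH _).diff ((Set.toFinite {i | i < j}).isClopen_biUnion fun i _ => hH _)).2⟩
  have hD : ∀ j, IsClopen (D j : Set G.left) := fun j =>
    (hH _).diff ((Set.toFinite {i | i < j}).isClopen_biUnion fun i _ => hH _)
  have hdisj : Pairwise (Function.onFun Disjoint fun j => W (e j).1 ⊓ D j) := by
    intro a b hab
    have key : ∀ i j : Fin T.card, i < j → Disjoint (W (e i).1 ⊓ D i) (W (e j).1 ⊓ D j) := by
      intro i j hij
      rw [disjoint_iff]
      ext x
      simp only [Opens.coe_inf, Opens.coe_bot, Set.mem_inter_iff, Set.mem_empty_iff_false, iff_false]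
      rintro ⟨⟨-, hi⟩, -, hj⟩
      exact hj.2 (Set.mem_biUnion hij hi.1)
    rcases lt_or_gt_of_ne hab with h | h
    · exact key a b h
    · exact (key b a h).symm
  refine ⟨⨆ j, W (e j).1 ⊓ D j, IsAffineOpen.iSup_of_disjoint
    (fun j => SchTop.isAffineOpen_inf_of_isClopen (hW _) (hD j)) hdisj, ?_⟩
  rintro _ ⟨s, rfl⟩
  obtain ⟨t, ht, hst⟩ := Set.mem_iUnion₂.1 (hT (Set.mem_univ s))
  have hex : ∃ j, fT.left s ∈ H (e j).1 :=
    ⟨T.equivFin ⟨t, ht⟩, by simpa [e] using hst⟩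
  have hwf := wellFounded_lt (α := Fin T.card)
  obtain ⟨j, hj, hmin⟩ := hwf.has_min {j | fT.left s ∈ H (e j).1} hex
  refine Opens.mem_iSup.2 ⟨j, hHW _ s hj, hj, fun h => ?_⟩
  obtain ⟨i, hi, his⟩ := Set.mem_iUnion₂.1 h
  exact hmin i his hi

end Groth.Agent.ProEtPts
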